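import Groth.Agent.Lib.Exchange.Kunneth

/-!
# Čech resolutions and the Künneth formula for affine diagonal
-/

set_option autoImplicit false
set_option linter.unusedSectionVars false
set_option linter.style.haveILetI false
set_option linter.dupNamespace false
set_option maxHeartbeats 800000
universe u

open CategoryTheory Limits AlgebraicGeometry Opposite TopologicalSpace HomologicalComplex
open CochainComplex ZeroObject MonoidalCategory
open scoped DirectSum

attribute [local instance] HasDerivedCategory.standard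

namespace Groth.Agent.Lib.KunnethAD

open Groth.Agent.Lib.CechRes
open Sec Crit

/-- Affine morphisms. -/
def AH : MorphismProperty Scheme.{u} := @IsAffineHom

instance : AH.{u}.IsStableUnderBaseChange := isAffineHom_isStableUnderBaseChange

instance : AH.{u}.IsStableUnderComposition := ⟨fun f g h h' => by
  haveI : IsAffineHom f := h
  haveI : IsAffineHom g := h'
  show IsAffineHom (f ≫ g)
  infer_instance⟩

section Diag

variable {A : Type u} [CommRing A] {X : Scheme.{u}}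
variable (f : X ⟶ Spec (CommRingCat.of A)) [IsAffineHom (pullback.diagonal f)]

include f in
lemma isAffineOpen_inf {U V : X.Opens} (hU : IsAffineOpen U) (hV : IsAffineOpen V) :
    IsAffineOpen (U ⊓ V) :=
  isAffineHom_diagonal_iff.mp ‹IsAffineHom (pullback.diagonal f)› ⊤ (isAffineOpen_top _) U (by simp)
    V (by simp) hU hV

include f in
lemma isAffineHom_ι {V : X.Opens} (hV : IsAffineOpen V) : IsAffineHom V.ι := ⟨fun W hW => by
  refine (V.ι.isAffineOpen_iff_of_isOpenImmersion).1 ?_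
  rw [Res.image_preimage]
  exact isAffineOpen_inf f hW hV⟩

open Res hiding isAffineOpen_inf isAffineHom_ι isQCoh_E qc_res apSum_res acycOn_E acycOn_step acycOn_res

include f in
lemma isQCoh_E {V : X.Opens} (hV : IsAffineOpen V) (M : X.Modules) [M.IsQuasicoherent] :
    ((E V).obj M).IsQuasicoherent :=
  haveI := isAffineHom_ι f hV
  haveI : (M.restrict V.ι).IsQuasicoherent := inferInstance
  QCoh.Pushforward.isQCoh_pushforward V.ι (M := M.restrict V.ι)

include f in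
theorem qc_res (l : List X.Opens) (hl : ∀ V ∈ l, IsAffineOpen V) (R : CochainComplex X.Modules ℤ)
    (hR : ∀ n, (R.X n).IsQuasicoherent) (n : ℤ) :
    ((res l R).T n).IsQuasicoherent ∧ ((res l R).C.X n).IsQuasicoherent := by
  have h : ∀ m, ((res l R).T m).IsQuasicoherent := prop_res (WayOut.Scheme.qc X) qc_biprod qc_zero l
    (fun V hV M (hM : M.IsQuasicoherent) => isQCoh_E f (hl V hV) M) R hR
  exact ⟨h n, (res l R).prop_C (WayOut.Scheme.qc X) qc_biprod n (h n) (hR n)⟩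

include f in
theorem apSum_res (l : List X.Opens) (hl : ∀ V ∈ l, IsAffineOpen V) (R : CochainComplex X.Modules ℤ)
    (hR : ∀ n, (R.X n).IsQuasicoherent) (n : ℤ) : APSum {V | V ∈ l} ((res l R).T n) := by
  induction l generalizing n with
  | nil => exact .zero (Limits.isZero_zero X.Modules)
  | cons V l ih =>
    have hl' : ∀ W ∈ l, IsAffineOpen W := fun W hW => hl W (List.mem_cons_of_mem _ hW)
    refine .biprod ((ih hl' n).mono fun W hW => List.mem_cons_of_mem _ hW)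
      (.single (V := V) List.mem_cons_self (ap_E V _) ?_)
    haveI := (qc_res f l hl' R hR (n - 1)).2
    exact isQCoh_E f (hl V List.mem_cons_self) _

include f in
lemma acycOn_E {V : X.Opens} (hV : IsAffineOpen V) {K : CochainComplex X.Modules ℤ}
    (hK : ∀ n, (K.X n).IsQuasicoherent) {O : X.Opens} (h : AcycOn K (O : Set X)) :
    AcycOn (((E V).mapHomologicalComplex (.up ℤ)).obj K) (O : Set X) := by
  refine acycOn_of_secA f _ (fun n => haveI := hK n; isQCoh_E f hV _) _ fun x hx => ?_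
  obtain ⟨W, hW, hxW, hWO⟩ := exists_isAffineOpen_mem_and_subset (U := O) (x := x) hx
  refine ⟨W, hW, hxW, fun n => ?_⟩
  have h' := (acyclic_secA_iff f K hK (isAffineOpen_inf f hW hV)).2
    (h.mono (fun y hy => hWO hy.1)) n
  exact ShortComplex.exact_of_iso ((K.sc n).mapNatIso (secE f V W)).symm h'

include f in
theorem acycOn_step {V : X.Opens} (hV : IsAffineOpen V) {R : CochainComplex X.Modules ℤ} (r : Res R)
    (hC : ∀ n, (r.C.X n).IsQuasicoherent) {O : X.Opens} (h : AcycOn r.C (O : Set X)) :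
    AcycOn (step V r).C ((O ⊔ V : X.Opens) : Set X) := by
  intro x hx
  let F := Modules.Stalk.stalkFunctor X x
  let φ := (F.mapHomologicalComplex (.up ℤ)).map (unitCx V r.C)
  have hq : QuasiIso φ := by
    rcases (show x ∈ O ∨ x ∈ V from hx) with hO | hV'
    · have h1 := h x hO
      have h2 := acycOn_E f hV hC h x hO
      exact ⟨fun n => (quasiIsoAt_iff_exactAt φ n (h1 n)).2 (h2 n)⟩
    · haveI : ∀ n, IsIso (φ.f n) := fun n =>
        (ConcreteCategory.isIso_iff_bijective _).2 (bijective_stalk_η hV' (r.C.X n))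
      haveI : IsIso φ := HomologicalComplex.Hom.isIso_of_components φ
      infer_instance
  have hcone : ((F.mapHomologicalComplex (.up ℤ)).obj (mappingCone (unitCx V r.C))).Acyclic :=
    fun n => ((SpecSeq.AcyclicComplex.quasiIso_iff_acyclic_mappingCone φ).1 hq n).of_iso
      (mappingCone.mapHomologicalComplexIso (unitCx V r.C) F).symm
  exact fun n => ((acyclic_shift _ (-1) hcone) n).of_iso
    (((F.mapHomologicalComplex (.up ℤ)).commShiftIso (-1 : ℤ)).app _).symm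

include f in
theorem acycOn_res (l : List X.Opens) (hl : ∀ V ∈ l, IsAffineOpen V) (R : CochainComplex X.Modules ℤ)
    (hR : ∀ n, (R.X n).IsQuasicoherent) :
    AcycOn (res l R).C {x | ∃ V ∈ l, x ∈ V} := by
  induction l with
  | nil => rintro x ⟨V, hV, -⟩; simp at hV
  | cons V l ih =>
    have hl' : ∀ W ∈ l, IsAffineOpen W := fun W hW => hl W (List.mem_cons_of_mem _ hW)
    have h := acycOn_step f (hl V List.mem_cons_self) (res l R) (fun n => (qc_res f l hl' R hR n).2)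
      (O := ⨆ W ∈ l, W) ((ih hl').mono fun y hy => by simpa using hy)
    refine h.mono fun y ⟨W, hW, hyW⟩ => ?_
    rcases List.mem_cons.1 hW with rfl | hW
    · exact Or.inr hyW
    · exact Or.inl (by simpa using ⟨W, hW, hyW⟩)

open Compute hiding exists_resolution

include f in
theorem exists_resolution (l : List X.Opens) (hl : ∀ V ∈ l, IsAffineOpen V)
    (hcov : ∀ x : X, ∃ V ∈ l, x ∈ V) (P : CochainComplex X.Modules ℤ)
    (hP : ∀ n, (P.X n).IsQuasicoherent) (Φ : ObjectProperty X.Modules) [Φ.IsClosedUnderIsomorphisms]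
    (hb : ∀ M N, Φ M → Φ N → Φ (M ⊞ N)) (h0 : ∀ M, IsZero M → Φ M)
    (hE : ∀ V ∈ l, ∀ M, Φ M → Φ ((E V).obj M)) (hΦ : ∀ n, Φ (P.X n)) :
    ∃ r : Resolution {V | V ∈ l} P, (∀ n, Φ (r.Q.X n)) ∧
      ∀ n : ℤ, (∀ j, n + 1 - l.length ≤ j → j ≤ n → IsZero (P.X j)) → IsZero (r.Q.X n) := by
  let R : CochainComplex X.Modules ℤ := P⟦(1 : ℤ)⟧
  have hR : ∀ n, (R.X n).IsQuasicoherent := fun n => hP (n + 1)
  let r := res l R
  have hac : r.C.Acyclic := (acyclic_iff_acycOn _).2 fun x _ =>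
    acycOn_res f l hl R hR x (hcov x)
  let S : ShortComplex (CochainComplex X.Modules ℤ) :=
    ShortComplex.mk (kernel.ι r.π) r.π (kernel.condition _)
  have hS : S.Exact := ShortComplex.exact_of_f_is_kernel _ (kernelIsKernel r.π)
  haveI : ∀ n, Mono (S.map (HomologicalComplex.eval X.Modules (.up ℤ) n)).f := fun n =>
    inferInstanceAs (Mono ((HomologicalComplex.eval X.Modules (.up ℤ) n).map (kernel.ι r.π)))
  let σ : ∀ n, (S.map (HomologicalComplex.eval X.Modules (.up ℤ) n)).Splitting := fun n =>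
    ShortComplex.Splitting.ofExactOfSection _ (hS.map _) (r.split n).s (r.split n).s_g inferInstance
  have e : ∀ n, Nonempty (r.T n ≅ S.X₁.X n) := fun n =>
    ⟨(r.split n).fIsKernel.conePointUniqueUpToIso (σ n).fIsKernel⟩
  let δ : R ⟶ S.X₁⟦(1 : ℤ)⟧ := homOfDegreewiseSplit S σ
  let aug : P ⟶ S.X₁ := (CategoryTheory.shiftFunctor (CochainComplex X.Modules ℤ) (1 : ℤ)).preimage δ
  have hq : QuasiIso aug := by
    rw [← CochainComplex.quasiIso_shift_iff aug 1, Functor.map_preimage]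
    exact quasiIso_homOfDegreewiseSplit S σ hac
  refine ⟨⟨S.X₁, aug, hq, fun n => .iso (e n).some (apSum_res f l hl R hR n)⟩, fun n => ?_,
    fun n hn => ?_⟩
  · exact Φ.prop_of_iso (e n).some (prop_res Φ hb h0 l hE R (fun m => hΦ (m + 1)) n)
  · exact (isZero_res l R n fun j h h' => hn (j + 1) (by lia) (by lia)).of_iso (e n).some.symm

open Groth.Agent.Lib.CechRes.Flat hiding secFlat_E flat_apSum

lemma secFlat_E {V : X.Opens} (hV : IsAffineOpen V) (M : X.Modules)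
    (hM : SecFlat f M) : SecFlat f ((E V).obj M) := fun W hW => by
  haveI := hM _ (isAffineOpen_inf f hW hV)
  exact Module.Flat.of_linearEquiv ((secE f V W).app M).toLinearEquiv

theorem flat_apSum {S : Set X.Opens} (hS : ∀ V ∈ S, IsAffineOpen V) {M : X.Modules}
    (hM : APSum S M) : SecFlat f M → Module.Flat A ((secA f ⊤).obj M) := by
  induction hM with
  | @single V M hV h hq =>
    intro hflat
    haveI := isIso_res_of_ap f (W := ⊤) h
    haveI := hflat V (hS V hV)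
    haveI : Module.Flat A ((secA f (⊤ ⊓ V)).obj M) := by rw [top_inf_eq]; infer_instance
    exact Module.Flat.of_linearEquiv (asIso ((resA f (inf_le_left : ⊤ ⊓ V ≤ ⊤)).app M)).toLinearEquiv
  | zero h =>
    intro _
    haveI := ModuleCat.subsingleton_of_isZero ((secA f ⊤).map_isZero h)
    infer_instance
  | @biprod M N hM hN a b =>
    intro h
    haveI := a (secFlat_retract f biprod.inl biprod.fst biprod.inl_fst h)
    haveI := b (secFlat_retract f biprod.inr biprod.snd biprod.inr_snd h)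
    haveI : Module.Flat A (((secA f ⊤).obj M × (secA f ⊤).obj N)) :=
      flat_prod _ _
    exact Module.Flat.of_linearEquiv (biprodEquiv f ⊤ M N)
  | @iso M N e hM a =>
    intro h
    haveI := a (ObjectProperty.prop_of_iso (SecFlat f : ObjectProperty X.Modules) e.symm h)
    exact Module.Flat.of_linearEquiv ((secA f ⊤).mapIso e).symm.toLinearEquiv

end Diag

section Pairs

open AffPull Pair
open Res hiding isAffineOpen_inf isAffineHom_ι isQCoh_E qc_res apSum_res acycOn_E acycOn_step acycOn_res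
open Compute hiding exists_resolution
open Groth.Agent.Lib.CechRes.Flat hiding secFlat_E flat_apSum
open PairGlobal hiding ap_T apSum_T isIso_mul_top isSeparated_Z

variable {A : Type u} [CommRing A] {Z X₁ X₂ : Scheme.{u}} {p : Z ⟶ X₁} {q : Z ⟶ X₂}
  {f₁ : X₁ ⟶ Spec (CommRingCat.of A)} {f₂ : X₂ ⟶ Spec (CommRingCat.of A)}
  (H : IsPullback p q f₁ f₂) [IsAffineHom (pullback.diagonal f₁)] [IsAffineHom (pullback.diagonal f₂)]

include H in
lemma isAffineHom_diag_Z : IsAffineHom (pullback.diagonal (p ≫ f₁)) :=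
  (AH.{u}.diagonal).comp_mem p f₁
    (MorphismProperty.of_isPullback (P := AH.{u}.diagonal) H.flip
      ‹IsAffineHom (pullback.diagonal f₂)›) ‹IsAffineHom (pullback.diagonal f₁)›

include H in
theorem ap_T {V₁ : X₁.Opens} {V₂ : X₂.Opens} (hV₁ : IsAffineOpen V₁) (hV₂ : IsAffineOpen V₂)
    {M : X₁.Modules} {N : X₂.Modules} [M.IsQuasicoherent] [N.IsQuasicoherent]
    (h₁ : AP V₁ M) (h₂ : AP V₂ N) : AP (box p q V₁ V₂) (((T p q).obj M).obj N) := by
  haveI := isAffineHom_diag_Z H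
  haveI := Pair.isQCoh_T p q M N
  haveI := isQCoh_E (p ≫ f₁) (AffPull.isAffineOpen_box H hV₁ hV₂) (((T p q).obj M).obj N)
  refine AffPull.isIso_of_app (M := ((T p q).obj M).obj N)
    (N := (Res.E (box p q V₁ V₂)).obj (((T p q).obj M).obj N))
    ((Res.η (box p q V₁ V₂)).app (((T p q).obj M).obj N)) fun x => ?_
  obtain ⟨W₁, W₂, hW₁, hW₂, hx⟩ := AffPull.exists_box H x
  refine ⟨box p q W₁ W₂, AffPull.isAffineOpen_box H hW₁ hW₂, hx, ?_⟩
  have hWV₁ := isAffineOpen_inf f₁ hW₁ hV₁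
  have hWV₂ := isAffineOpen_inf f₂ hW₂ hV₂
  have hle : box p q (W₁ ⊓ V₁) (W₂ ⊓ V₂) ≤ box p q W₁ W₂ :=
    inf_le_inf (p.preimage_mono inf_le_left) (q.preimage_mono inf_le_left)
  haveI := Pair.isIso_mul_box H hW₁ hW₂ M N
  haveI := Pair.isIso_mul_box H hWV₁ hWV₂ M N
  haveI := Flat.isIso_res_of_ap f₁ (W := W₁) h₁
  haveI := Flat.isIso_res_of_ap f₂ (W := W₂) h₂
  have e := Pair.mul_res H (inf_le_left : W₁ ⊓ V₁ ≤ W₁) (inf_le_left : W₂ ⊓ V₂ ≤ W₂) hle
    (inf_le_left : box p q W₁ W₂ ≤ p ⁻¹ᵁ W₁) (inf_le_right : box p q W₁ W₂ ≤ q ⁻¹ᵁ W₂)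
    inf_le_left inf_le_right M N
  haveI : IsIso (mul H (inf_le_left : box p q W₁ W₂ ≤ p ⁻¹ᵁ W₁) inf_le_right M N ≫
      (resA (p ≫ f₁) hle).app (((T p q).obj M).obj N)) := by
    rw [e]; infer_instance
  haveI : IsIso ((resA (p ≫ f₁) hle).app (((T p q).obj M).obj N)) :=
    IsIso.of_isIso_comp_left (mul H (inf_le_left : box p q W₁ W₂ ≤ p ⁻¹ᵁ W₁) inf_le_right M N) _
  rw [Scheme.Modules.restrictAdjunction_unit_app_app]
  exact (ParaF.ResBij.presheaf_map_bijective_congr (M := ((T p q).obj M).obj N)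
    (show box p q (W₁ ⊓ V₁) (W₂ ⊓ V₂) = _ by
      rw [Res.image_preimage]; ext1; simp [AffPull.box, Set.preimage_inter]; tauto_set) rfl hle _).1
    ((bijective_resA_iff (p ≫ f₁) hle _).1 inferInstance)

variable {S₁ : Set X₁.Opens} {S₂ : Set X₂.Opens}
  (hS₁ : ∀ V ∈ S₁, IsAffineOpen V) (hS₂ : ∀ V ∈ S₂, IsAffineOpen V)

include H hS₁ hS₂ in
theorem apSum_T {M : X₁.Modules} {N : X₂.Modules} (hM : APSum S₁ M) (hN : APSum S₂ N) :
    APSum (boxes p q S₁ S₂) (((T p q).obj M).obj N) := by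
  induction hM with
  | @single V₁ M hV₁ h₁ hq₁ =>
    induction hN with
    | @single V₂ N hV₂ h₂ hq₂ =>
      exact .single (Set.mem_image2_of_mem hV₁ hV₂) (ap_T H (hS₁ _ hV₁) (hS₂ _ hV₂) h₁ h₂)
        (Pair.isQCoh_T p q M N)
    | zero h => exact .zero (((T p q).obj M).map_isZero h)
    | @biprod N N' _ _ a b =>
      haveI := preservesBinaryBiproducts_of_preservesBiproducts ((T p q).obj M)
      exact .iso (((T p q).obj M).mapBiprod N N').symm (.biprod a b)
    | iso e _ a => exact .iso (((T p q).obj M).mapIso e) a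
  | zero h => exact .zero (((T p q).flip.obj N).map_isZero h)
  | @biprod M M' _ _ a b =>
    haveI := preservesBinaryBiproducts_of_preservesBiproducts ((T p q).flip.obj N)
    exact .iso (((T p q).flip.obj N).mapBiprod M M').symm (.biprod a b)
  | iso e _ a => exact .iso (((T p q).flip.obj N).mapIso e) a

include hS₁ hS₂ in
theorem isIso_mul_top {M : X₁.Modules} {N : X₂.Modules} (hM : APSum S₁ M) (hN : APSum S₂ N) :
    IsIso (mul H (W₁ := ⊤) (W₂ := ⊤) (le_top : (⊤ : Z.Opens) ≤ p ⁻¹ᵁ (⊤ : X₁.Opens))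
      (le_top : (⊤ : Z.Opens) ≤ q ⁻¹ᵁ (⊤ : X₂.Opens)) M N) := by
  induction hM with
  | @single V₁ M hV₁ h₁ hq₁ =>
    induction hN with
    | @single V₂ N hV₂ h₂ hq₂ =>
      have haff₁ : IsAffineOpen ((⊤ : X₁.Opens) ⊓ V₁) := by rw [top_inf_eq]; exact hS₁ _ hV₁
      have haff₂ : IsAffineOpen ((⊤ : X₂.Opens) ⊓ V₂) := by rw [top_inf_eq]; exact hS₂ _ hV₂
      haveI := Pair.isIso_mul_box H haff₁ haff₂ M N
      haveI := Flat.isIso_res_of_ap f₁ (W := ⊤) h₁
      haveI := Flat.isIso_res_of_ap f₂ (W := ⊤) h₂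
      haveI := isAffineHom_diag_Z H
      have hb : box p q ((⊤ : X₁.Opens) ⊓ V₁) ((⊤ : X₂.Opens) ⊓ V₂) = ⊤ ⊓ box p q V₁ V₂ := by
        simp [AffPull.box]
      have hle : box p q ((⊤ : X₁.Opens) ⊓ V₁) ((⊤ : X₂.Opens) ⊓ V₂) ≤ ⊤ := le_top
      haveI : IsIso ((resA (p ≫ f₁) hle).app (((T p q).obj M).obj N)) := by
        have h' := (bijective_resA_iff (p ≫ f₁) _ _).1
          (Flat.isIso_res_of_ap (p ≫ f₁) (W := ⊤) (ap_T H (hS₁ _ hV₁) (hS₂ _ hV₂) h₁ h₂))
        exact (bijective_resA_iff (p ≫ f₁) hle _).2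
          ((ParaF.ResBij.presheaf_map_bijective_congr (M := ((T p q).obj M).obj N) hb rfl hle inf_le_left).2 h')
      have e := Pair.mul_res H (inf_le_left : (⊤ : X₁.Opens) ⊓ V₁ ≤ ⊤)
        (inf_le_left : (⊤ : X₂.Opens) ⊓ V₂ ≤ ⊤) hle (le_top : (⊤ : Z.Opens) ≤ p ⁻¹ᵁ (⊤ : X₁.Opens))
        (le_top : (⊤ : Z.Opens) ≤ q ⁻¹ᵁ (⊤ : X₂.Opens)) inf_le_left inf_le_right M N
      haveI : IsIso (mul H (W₁ := ⊤) (W₂ := ⊤) (le_top : (⊤ : Z.Opens) ≤ p ⁻¹ᵁ (⊤ : X₁.Opens)) (le_top : (⊤ : Z.Opens) ≤ q ⁻¹ᵁ (⊤ : X₂.Opens)) M N ≫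
          (resA (p ≫ f₁) hle).app (((T p q).obj M).obj N)) := by
        rw [e]; infer_instance
      exact IsIso.of_isIso_comp_right _ ((resA (p ≫ f₁) hle).app (((T p q).obj M).obj N))
    | @zero N h =>
      exact ⟨0, ((secA f₂ ⊤ ⋙ tensorLeft ((secA f₁ ⊤).obj M)).map_isZero h).eq_of_src _ _,
        (((T p q).obj M ⋙ secA (p ≫ f₁) ⊤).map_isZero h).eq_of_src _ _⟩
    | @biprod N N' _ _ a b =>
      let η := mulRight H (W₁ := ⊤) (W₂ := ⊤) (le_top : (⊤ : Z.Opens) ≤ p ⁻¹ᵁ (⊤ : X₁.Opens)) (le_top : (⊤ : Z.Opens) ≤ q ⁻¹ᵁ (⊤ : X₂.Opens)) M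
      haveI : IsIso (η.app N) := a
      haveI : IsIso (η.app N') := b
      exact AffPull.isIso_app_biprod η N N'
    | @iso N N' e _ a =>
      exact (NatTrans.isIso_app_iff_of_iso
        (mulRight H (W₁ := ⊤) (W₂ := ⊤) (le_top : (⊤ : Z.Opens) ≤ p ⁻¹ᵁ (⊤ : X₁.Opens)) (le_top : (⊤ : Z.Opens) ≤ q ⁻¹ᵁ (⊤ : X₂.Opens)) M) e).1 a
  | @zero M h =>
    exact ⟨0, ((secA f₁ ⊤ ⋙ tensorRight ((secA f₂ ⊤).obj N)).map_isZero h).eq_of_src _ _,
      (((T p q).flip.obj N ⋙ secA (p ≫ f₁) ⊤).map_isZero h).eq_of_src _ _⟩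
  | @biprod M M' _ _ a b =>
    let η := mulLeft H (W₁ := ⊤) (W₂ := ⊤) (le_top : (⊤ : Z.Opens) ≤ p ⁻¹ᵁ (⊤ : X₁.Opens)) (le_top : (⊤ : Z.Opens) ≤ q ⁻¹ᵁ (⊤ : X₂.Opens)) N
    haveI : IsIso (η.app M) := a
    haveI : IsIso (η.app M') := b
    exact AffPull.isIso_app_biprod η M M'
  | @iso M M' e _ a =>
    exact (NatTrans.isIso_app_iff_of_iso
      (mulLeft H (W₁ := ⊤) (W₂ := ⊤) (le_top : (⊤ : Z.Opens) ≤ p ⁻¹ᵁ (⊤ : X₁.Opens)) (le_top : (⊤ : Z.Opens) ≤ q ⁻¹ᵁ (⊤ : X₂.Opens)) N) e).1 a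

include H hS₁ hS₂ in
theorem exists_resolution_kunneth [QuasiCompact f₁] [QuasiCompact f₂]
    {P₁ : CochainComplex X₁.Modules ℤ} {P₂ : CochainComplex X₂.Modules ℤ}
    (hq₁ : ∀ i, (P₁.X i).IsQuasicoherent) (hq₂ : ∀ i, (P₂.X i).IsQuasicoherent)
    (r₁ : Resolution S₁ P₁) (r₂ : Resolution S₂ P₂) (a b : ℤ)
    (ha : ∀ i, a < i → IsZero (P₁.X i)) (ha' : ∀ i, a < i → IsZero (r₁.Q.X i))
    (hb : ∀ i, b < i → IsZero (P₂.X i)) (hb' : ∀ i, b < i → IsZero (r₂.Q.X i))
    (hfl : ∀ i, Flat.SecFlat f₁ (P₁.X i)) (hfl' : ∀ i, Flat.SecFlat f₁ (r₁.Q.X i))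
    (h0 : ∀ i, i < 0 → IsZero (r₁.Q.X i)) (h0' : ∀ i, i < 0 → IsZero (r₂.Q.X i)) :
    ∃ r : Resolution (boxes p q S₁ S₂) (mapBifunctor P₁ P₂ (T p q) (.up ℤ)),
      (∀ n, n < 0 → IsZero (r.Q.X n)) ∧
      Nonempty (HTor.tensorCx (((secA f₁ ⊤).mapHomologicalComplex (.up ℤ)).obj r₁.Q)
        (((secA f₂ ⊤).mapHomologicalComplex (.up ℤ)).obj r₂.Q) ≅
          ((secA (p ≫ f₁) ⊤).mapHomologicalComplex (.up ℤ)).obj r.Q) := by
  haveI := isAffineHom_diag_Z H
  haveI : QuasiCompact p := MorphismProperty.of_isPullback H.flip inferInstance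
  have hqQ₁ : ∀ i, (r₁.Q.X i).IsQuasicoherent := fun i => apSum_qc (r₁.apSum i)
  have hqQ₂ : ∀ i, (r₂.Q.X i).IsQuasicoherent := fun i => apSum_qc (r₂.apSum i)
  let φ := mapBifunctorMap r₁.aug r₂.aug (T p q) (.up ℤ)
  have hφ : QuasiIso φ := by
    refine (SpecSeq.AcyclicComplex.quasiIso_iff_acyclic_mappingCone φ).2 ((acyclic_iff_acycOn _).2 ?_)
    refine acycOn_of_secA (p ≫ f₁) _ (fun n => ?_) _ fun x _ => ?_
    · exact (WayOut.Scheme.qc Z).prop_of_iso
        (HomologicalComplex.homotopyCofiber.XIsoBiprod φ n (n + 1) rfl).symm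
        (qc_biprod _ _ (qc_total a b ha hb hq₁ hq₂ _) (qc_total a b ha' hb' hqQ₁ hqQ₂ _))
    obtain ⟨W₁, W₂, hW₁, hW₂, hx⟩ := AffPull.exists_box H x
    refine ⟨box p q W₁ W₂, AffPull.isAffineOpen_box H hW₁ hW₂, hx, fun n => ?_⟩
    let G := secA (p ≫ f₁) (box p q W₁ W₂)
    have hG : QuasiIso ((G.mapHomologicalComplex (.up ℤ)).map φ) := by
      haveI h₁ : QuasiIso (((secA f₁ W₁).mapHomologicalComplex (.up ℤ)).map r₁.aug) := by
        refine (SpecSeq.AcyclicComplex.quasiIso_iff_acyclic_mappingCone _).2 fun n => ?_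
        refine ExactAt.of_iso ?_ (CochainComplex.mappingCone.mapHomologicalComplexIso r₁.aug (secA f₁ W₁))
        exact (acyclic_secA_iff f₁ _ (fun m => (WayOut.Scheme.qc X₁).prop_of_iso
          (HomologicalComplex.homotopyCofiber.XIsoBiprod r₁.aug m (m + 1) rfl).symm
          (qc_biprod _ _ (hq₁ _) (hqQ₁ _))) hW₁).2
          (((acyclic_iff_acycOn _).1 ((SpecSeq.AcyclicComplex.quasiIso_iff_acyclic_mappingCone _).1 r₁.qis)).mono
            (Set.subset_univ _)) n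
      haveI h₂ : QuasiIso (((secA f₂ W₂).mapHomologicalComplex (.up ℤ)).map r₂.aug) := by
        refine (SpecSeq.AcyclicComplex.quasiIso_iff_acyclic_mappingCone _).2 fun n => ?_
        refine ExactAt.of_iso ?_ (CochainComplex.mappingCone.mapHomologicalComplexIso r₂.aug (secA f₂ W₂))
        exact (acyclic_secA_iff f₂ _ (fun m => (WayOut.Scheme.qc X₂).prop_of_iso
          (HomologicalComplex.homotopyCofiber.XIsoBiprod r₂.aug m (m + 1) rfl).symm
          (qc_biprod _ _ (hq₂ _) (hqQ₂ _))) hW₂).2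
          (((acyclic_iff_acycOn _).1 ((SpecSeq.AcyclicComplex.quasiIso_iff_acyclic_mappingCone _).1 r₂.qis)).mono
            (Set.subset_univ _)) n
      let θ := Pair.data H (inf_le_left : box p q W₁ W₂ ≤ p ⁻¹ᵁ W₁) (inf_le_right : box p q W₁ W₂ ≤ q ⁻¹ᵁ W₂)
      let e := secBoxIso H a b ha hb hW₁ hW₂ hq₁ hq₂
      let e' := secBoxIso H a b ha' hb' hW₁ hW₂ hqQ₁ hqQ₂
      haveI := TensorQis.quasiIso_tensorHom (((secA f₁ W₁).mapHomologicalComplex (.up ℤ)).map r₁.aug)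
        (((secA f₂ W₂).mapHomologicalComplex (.up ℤ)).map r₂.aug) (fun i => hfl i W₁ hW₁)
        (fun i => hfl' i W₁ hW₁) a (fun i hi => (secA f₁ W₁).map_isZero (ha i hi))
        (fun i hi => (secA f₁ W₁).map_isZero (ha' i hi)) b (fun i hi => (secA f₂ W₂).map_isZero (hb i hi))
      have hn := BiTotal.totalMap_natural θ r₁.aug r₂.aug
      have e0 : (G.mapHomologicalComplex (.up ℤ)).map φ = e.inv ≫ HomologicalComplex.tensorHom
          (((secA f₁ W₁).mapHomologicalComplex (.up ℤ)).map r₁.aug)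
          (((secA f₂ W₂).mapHomologicalComplex (.up ℤ)).map r₂.aug) ≫ e'.hom :=
        (Iso.eq_inv_comp e).2 hn.symm
      rw [e0]
      infer_instance
    exact ((SpecSeq.AcyclicComplex.quasiIso_iff_acyclic_mappingCone _).1 hG n).of_iso
      (CochainComplex.mappingCone.mapHomologicalComplexIso φ G).symm
  let r : Resolution (boxes p q S₁ S₂) (mapBifunctor P₁ P₂ (T p q) (.up ℤ)) :=
    { Q := mapBifunctor r₁.Q r₂.Q (T p q) (.up ℤ)
      aug := φ
      qis := hφ
      apSum := fun n => prop_total a b ha' hb' n (APSum (boxes p q S₁ S₂)) (fun h => .zero h)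
        (fun h h' => .biprod h h') (fun e h => .iso e h) fun i j => apSum_T H hS₁ hS₂ (r₁.apSum i) (r₂.apSum j) }
  refine ⟨r, fun n hn => ?_, ⟨BiTotal.totalIso r₁.Q r₂.Q
    (Pair.data H (W₁ := ⊤) (W₂ := ⊤) (le_top : (⊤ : Z.Opens) ≤ p ⁻¹ᵁ (⊤ : X₁.Opens)) (le_top : (⊤ : Z.Opens) ≤ q ⁻¹ᵁ (⊤ : X₂.Opens)))
    (finite_summands a b ha' hb') (fun i j => isIso_mul_top H hS₁ hS₂ (r₁.apSum i) (r₂.apSum j))⟩⟩
  refine BiTotal.prop_term (s := ∅) (fun i _ => ?_) IsZero (fun h => h)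
    (fun {M N} h h' => (IsZero.iff_id_eq_zero _).2 (biprod.hom_ext' _ _ (h.eq_of_src _ _) (h'.eq_of_src _ _)))
    (fun e h => h.of_iso e.symm) (fun i hi => absurd hi (Finset.notMem_empty i))
  by_cases hi : i < 0
  · exact ((T p q).flip.obj (r₂.Q.X (n - i))).map_isZero (h0 i hi)
  · exact ((T p q).obj (r₁.Q.X i)).map_isZero (h0' _ (by lia))


end Pairs

section Acyc

open ZarCoh.Exchange.AcycRes Groth.Agent.Lib.Curves

variable (A : Type u) [CommRing A] {X : Scheme.{u}} [X.Over (Spec (CommRingCat.of A))]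

local notation "pX" => (X ↘ Spec (CommRingCat.of A))

theorem subsingleton_HH_apSum [IsAffineHom (pullback.diagonal pX)] {S : Set X.Opens} (hS : ∀ V ∈ S, IsAffineOpen V)
    {M : X.Modules} (hM : CechRes.Res.APSum S M) (k : ℕ) :
    Subsingleton (Coh.HH X M (k + 1)) := by
  induction hM with
  | @single V M hV h hq =>
    haveI := hq
    haveI := isAffineHom_ι pX (hS V hV)
    haveI : IsIso ((CechRes.Res.η V).app M) := h
    haveI : (M.restrict V.ι).IsQuasicoherent := inferInstance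
    haveI : Subsingleton (Coh.HH (V : Scheme.{u}) (M.restrict V.ι) (k + 1)) :=
      ZarCoh.Morph.HHon_subsingleton M (hS V hV) k
    haveI : Subsingleton (Coh.HH X ((CechRes.Res.E V).obj M) (k + 1)) :=
      show Subsingleton (Coh.HH X ((Coh.push V.ι).obj (M.restrict V.ι)) (k + 1)) from
        (ZarCoh.Morph.affineEquiv V.ι (M.restrict V.ι) (k + 1)).injective.subsingleton
    exact (LES.isoK A (asIso ((CechRes.Res.η V).app M)) (k + 1)).injective.subsingleton
  | @zero M h =>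
    exact ModuleCat.subsingleton_of_isZero ((HF A (X := X) (k + 1)).map_isZero h)
  | @biprod M N _ _ a b =>
    have h : IsZero ((HF A (X := X) (k + 1)).obj (M ⊞ N)) := by
      haveI := preservesBinaryBiproducts_of_preservesBiproducts (HF A (X := X) (k + 1))
      refine IsZero.of_iso ?_ ((HF A (X := X) (k + 1)).mapBiprod M N)
      refine (IsZero.iff_id_eq_zero _).2 (biprod.hom_ext' _ _ ?_ ?_)
      · exact (haveI : Subsingleton ((HF A (X := X) (k + 1)).obj M) := a; ModuleCat.isZero_of_subsingleton ((HF A (X := X) (k + 1)).obj M)).eq_of_src _ _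
      · exact (haveI : Subsingleton ((HF A (X := X) (k + 1)).obj N) := b; ModuleCat.isZero_of_subsingleton ((HF A (X := X) (k + 1)).obj N)).eq_of_src _ _
    exact ModuleCat.subsingleton_of_isZero h
  | @iso M N e _ a => exact (LES.isoK A e (k + 1)).symm.injective.subsingleton

end Acyc

section Main

open ZarCoh.Exchange AffPull Pair
open Res hiding isAffineOpen_inf isAffineHom_ι isQCoh_E qc_res apSum_res acycOn_E acycOn_step acycOn_res
open Compute hiding exists_resolution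
open PairGlobal hiding ap_T apSum_T isIso_mul_top isSeparated_Z
open ZarCoh.Exchange.Kunneth (nonempty_sum_equiv)

theorem nonempty_kunneth_linear (A : Type u) [CommRing A] (X₁ X₂ : Scheme.{u})
    [X₁.Over (Spec (CommRingCat.of A))] [X₂.Over (Spec (CommRingCat.of A))]
    [QuasiCompact (X₁ ↘ Spec (CommRingCat.of A))] [IsAffineHom (pullback.diagonal (X₁ ↘ Spec (CommRingCat.of A)))]
    [QuasiCompact (X₂ ↘ Spec (CommRingCat.of A))] [IsAffineHom (pullback.diagonal (X₂ ↘ Spec (CommRingCat.of A)))]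
    (F₁ : X₁.Modules) [Coh.IsQCoh F₁] (F₂ : X₂.Modules) [Coh.IsQCoh F₂]
    (hfl : FlatMod.IsFlatOver (X₁ ↘ Spec (CommRingCat.of A)) F₁)
    (hH : ∀ p : ℕ, Module.Flat A (Coh.HH X₁ F₁ p)) (n : ℕ) :
    letI : (pullback (X₁ ↘ Spec (CommRingCat.of A)) (X₂ ↘ Spec (CommRingCat.of A))).Over (Spec (CommRingCat.of A)) :=
      ⟨pullback.fst (X₁ ↘ Spec (CommRingCat.of A)) (X₂ ↘ Spec (CommRingCat.of A)) ≫ (X₁ ↘ Spec (CommRingCat.of A))⟩
    Nonempty (Coh.HH (pullback (X₁ ↘ Spec (CommRingCat.of A)) (X₂ ↘ Spec (CommRingCat.of A)))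
        (CohB1.tensorMod
          ((Scheme.Modules.pullback (pullback.fst (X₁ ↘ Spec (CommRingCat.of A)) (X₂ ↘ Spec (CommRingCat.of A)))).obj F₁)
          ((Scheme.Modules.pullback (pullback.snd (X₁ ↘ Spec (CommRingCat.of A)) (X₂ ↘ Spec (CommRingCat.of A)))).obj F₂)) n ≃ₗ[A]
      DirectSum (Finset.antidiagonal n) fun pq => TensorProduct A (Coh.HH X₁ F₁ pq.1.1) (Coh.HH X₂ F₂ pq.1.2)) := by
  classical
  let f₁ := X₁ ↘ Spec (CommRingCat.of A)
  let f₂ := X₂ ↘ Spec (CommRingCat.of A)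
  let p := pullback.fst f₁ f₂
  let q := pullback.snd f₁ f₂
  have H : IsPullback p q f₁ f₂ := IsPullback.of_hasPullback f₁ f₂
  letI : (pullback f₁ f₂).Over (Spec (CommRingCat.of A)) := ⟨p ≫ f₁⟩
  haveI : IsAffineHom (pullback.diagonal (pullback f₁ f₂ ↘ Spec (CommRingCat.of A))) := isAffineHom_diag_Z H
  let P₁ := (CochainComplex.singleFunctor X₁.Modules 0).obj F₁
  let P₂ := (CochainComplex.singleFunctor X₂.Modules 0).obj F₂
  have z₁ : ∀ i, i ≠ 0 → IsZero (P₁.X i) := fun i hi => HomologicalComplex.isZero_single_obj_X _ _ _ _ hi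
  have z₂ : ∀ i, i ≠ 0 → IsZero (P₂.X i) := fun i hi => HomologicalComplex.isZero_single_obj_X _ _ _ _ hi
  let g₁ : F₁ ≅ P₁.X 0 := (HomologicalComplex.singleObjXSelf (.up ℤ) 0 F₁).symm
  let g₂ : F₂ ≅ P₂.X 0 := (HomologicalComplex.singleObjXSelf (.up ℤ) 0 F₂).symm
  have hq₁ : ∀ i, (P₁.X i).IsQuasicoherent := fun i => by
    by_cases hi : i = 0
    · subst hi
      exact (WayOut.Scheme.qc X₁).prop_of_iso g₁ ‹Coh.IsQCoh F₁›
    · exact qc_zero _ (z₁ i hi)
  have hq₂ : ∀ i, (P₂.X i).IsQuasicoherent := fun i => by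
    by_cases hi : i = 0
    · subst hi
      exact (WayOut.Scheme.qc X₂).prop_of_iso g₂ ‹Coh.IsQCoh F₂›
    · exact qc_zero _ (z₂ i hi)
  have hfl₁ : ∀ i, Flat.SecFlat f₁ (P₁.X i) := fun i => by
    by_cases hi : i = 0
    · subst hi
      haveI : F₁.IsQuasicoherent := ‹Coh.IsQCoh F₁›
      exact ObjectProperty.prop_of_iso (Flat.SecFlat f₁) g₁ (Flat.secFlat_of_isFlatOver f₁ F₁ hfl)
    · exact Flat.secFlat_zero f₁ _ (z₁ i hi)
  obtain ⟨l₁, hl₁, hcov₁⟩ := Cover.exists_list_cover f₁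
  obtain ⟨l₂, hl₂, hcov₂⟩ := Cover.exists_list_cover f₂
  obtain ⟨r₁, hΦ₁, hz₁⟩ := exists_resolution f₁ l₁ hl₁ hcov₁ P₁ hq₁ (Flat.SecFlat f₁)
    (Flat.secFlat_biprod f₁) (Flat.secFlat_zero f₁) (fun V hV => secFlat_E f₁ (hl₁ V hV)) hfl₁
  obtain ⟨r₂, -, hz₂⟩ := exists_resolution f₂ l₂ hl₂ hcov₂ P₂ hq₂ (WayOut.Scheme.qc X₂) qc_biprod
    qc_zero (fun V hV M (hM : M.IsQuasicoherent) => isQCoh_E f₂ (hl₂ V hV) M) hq₂
  have low₁ : ∀ i : ℤ, i < 0 → IsZero (r₁.Q.X i) := fun i hi => hz₁ i fun j _ h => z₁ j (by lia)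
  have low₂ : ∀ i : ℤ, i < 0 → IsZero (r₂.Q.X i) := fun i hi => hz₂ i fun j _ h => z₂ j (by lia)
  have high₁ : ∀ i : ℤ, (l₁.length : ℤ) < i → IsZero (r₁.Q.X i) := fun i hi =>
    hz₁ i fun j h _ => z₁ j (by lia)
  have high₂ : ∀ i : ℤ, (l₂.length : ℤ) < i → IsZero (r₂.Q.X i) := fun i hi =>
    hz₂ i fun j h _ => z₂ j (by lia)
  obtain ⟨r, low, ⟨eT⟩⟩ := exists_resolution_kunneth H hl₁ hl₂ hq₁ hq₂ r₁ r₂ l₁.length l₂.length
    (fun i hi => z₁ i (by lia)) high₁ (fun i hi => z₂ i (by lia)) high₂ hfl₁ hΦ₁ low₁ low₂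
  let G := ((T p q).obj F₁).obj F₂
  have zP : ∀ i, i ≠ 0 → IsZero ((mapBifunctor P₁ P₂ (T p q) (.up ℤ)).X i) := fun i hi => by
    refine BiTotal.prop_term (s := ∅) (fun j _ => ?_) IsZero (fun h => h)
      (fun {M N} h h' => (IsZero.iff_id_eq_zero _).2 (biprod.hom_ext' _ _ (h.eq_of_src _ _) (h'.eq_of_src _ _)))
      (fun e h => h.of_iso e.symm) (fun j hj => absurd hj (Finset.notMem_empty j))
    by_cases hj : j = 0
    · exact ((T p q).obj (P₁.X j)).map_isZero (z₂ _ (by lia))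
    · exact ((T p q).flip.obj (P₂.X (i - j))).map_isZero (z₁ j hj)
  let gP : G ≅ (mapBifunctor P₁ P₂ (T p q) (.up ℤ)).X 0 :=
    (((T p q).mapIso g₁).app F₂ ≪≫ ((T p q).obj (P₁.X 0)).mapIso g₂ ≪≫
      ((T p q).obj (P₁.X 0)).mapIso (eqToIso (by rw [sub_zero]))) ≪≫
    { hom := BiTotal.ι (T p q) P₁ P₂ 0 0
      inv := BiTotal.π (T p q) P₁ P₂ 0 0
      hom_inv_id := BiTotal.ι_π _ _ _ _ _
      inv_hom_id := by
        have := BiTotal.sum_π_ι (F := T p q) (K := P₁) (L := P₂) (n := 0) (s := {0}) fun j hj => by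
          have hj' : j ≠ 0 := by simpa using hj
          exact ((T p q).flip.obj (P₂.X (0 - j))).map_isZero (z₁ j hj')
        simpa using this }
  let L := ((secA f₁ ⊤).mapHomologicalComplex (.up ℤ)).obj r₁.Q
  let M := ((secA f₂ ⊤).mapHomologicalComplex (.up ℤ)).obj r₂.Q
  haveI := r₁.qis
  haveI := r₂.qis
  haveI := r.qis
  have E₁ := AcycRes.nonempty_homology_linearEquiv A r₁.aug g₁ z₁ low₁
    (fun i k => subsingleton_HH_apSum A hl₁ (r₁.apSum i) k)
  have E₂ := AcycRes.nonempty_homology_linearEquiv A r₂.aug g₂ z₂ low₂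
    (fun i k => subsingleton_HH_apSum A hl₂ (r₂.apSum i) k)
  obtain ⟨E⟩ := AcycRes.nonempty_homology_linearEquiv A r.aug gP zP low
    (fun i k => subsingleton_HH_apSum A (by
      rintro _ ⟨V₁, h₁, V₂, h₂, rfl⟩
      exact AffPull.isAffineOpen_box H (hl₁ _ h₁) (hl₂ _ h₂)) (r.apSum i) k) n
  have zL : ∀ i : ℤ, i < 0 → Subsingleton (L.homology i) := fun i hi =>
    ModuleCat.subsingleton_of_isZero
      (HomologicalComplex.ExactAt.of_isZero ((secA f₁ ⊤).map_isZero (low₁ i hi))).isZero_homology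
  have zM : ∀ i : ℤ, i < 0 → Subsingleton (M.homology i) := fun i hi =>
    ModuleCat.subsingleton_of_isZero
      (HomologicalComplex.ExactAt.of_isZero ((secA f₂ ⊤).map_isZero (low₂ i hi))).isZero_homology
  have hHL : ∀ i, Module.Flat A (L.homology i) := fun i => by
    rcases Int.lt_or_le i 0 with hi | hi
    · haveI := zL i hi
      infer_instance
    · obtain ⟨k, rfl⟩ := Int.eq_ofNat_of_zero_le hi
      haveI := hH k
      exact Module.Flat.of_linearEquiv (E₁ k).some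
  have hLflat : DRing.TermwiseFlat L := fun i => flat_apSum f₁ hl₁ (r₁.apSum i) (hΦ₁ i)
  let K := LinearEquiv.ofBijective _ (TensorCx.Filtration.kmap_bijective L M hLflat l₁.length
    (fun i hi => (secA f₁ ⊤).map_isZero (high₁ i hi)) ((l₂.length : ℤ) + 1)
    (TensorCx.Filtration.exactAt_of_isZero_above M l₂.length
      fun i hi => (secA f₂ ⊤).map_isZero (high₂ i hi)) hHL (n : ℤ))
  let e : ↥(Finset.antidiagonal n) → HTor.Antidiag (n : ℤ) := fun pq =>
    ⟨((pq.1.1 : ℤ), (pq.1.2 : ℤ)), by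
      show (pq.1.1 : ℤ) + (pq.1.2 : ℤ) = (n : ℤ)
      exact_mod_cast Finset.mem_antidiagonal.1 pq.2⟩
  obtain ⟨S⟩ := nonempty_sum_equiv (A := A)
    (fun ij : HTor.Antidiag (n : ℤ) => TensorProduct A (L.homology ij.1.1) (M.homology ij.1.2)) e
    (fun x y hxy => by
      have h := congrArg Subtype.val hxy
      simp only [e, Prod.mk.injEq, Nat.cast_inj] at h
      exact Subtype.ext (Prod.ext h.1 h.2))
    fun ij hij => by
      obtain ⟨⟨i, j⟩, hij'⟩ := ij
      rcases Int.lt_or_le i 0 with hi | hi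
      · haveI := zL i hi
        exact subsingleton_of_forall_eq 0 fun x => by
          induction x using TensorProduct.induction_on with
          | zero => rfl
          | tmul a b => rw [Subsingleton.elim a 0, TensorProduct.zero_tmul]
          | add a b ha hb => rw [ha, hb, add_zero]
      rcases Int.lt_or_le j 0 with hj | hj
      · haveI := zM j hj
        exact subsingleton_of_forall_eq 0 fun x => by
          induction x using TensorProduct.induction_on with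
          | zero => rfl
          | tmul a b => rw [Subsingleton.elim b 0, TensorProduct.tmul_zero]
          | add a b ha hb => rw [ha, hb, add_zero]
      obtain ⟨i, rfl⟩ := Int.eq_ofNat_of_zero_le hi
      obtain ⟨j, rfl⟩ := Int.eq_ofNat_of_zero_le hj
      exact absurd ⟨⟨(i, j), Finset.mem_antidiagonal.2 (by
        show i + j = n
        have h : (i : ℤ) + (j : ℤ) = (n : ℤ) := hij'
        exact_mod_cast h)⟩, rfl⟩ hij
  exact ⟨(E.symm.trans ((((HomologicalComplex.homologyFunctor _ _ (n : ℤ)).mapIso eT).toLinearEquiv.symm.trans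
    K.symm).trans (S.symm.trans
      (DFinsupp.mapRange.linearEquiv fun pq => TensorProduct.congr (E₁ pq.1.1).some (E₂ pq.1.2).some))))⟩

end Main

end Groth.Agent.Lib.KunnethAD
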